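import Groth.Agent.Lib.QcohEt15.FP
import Groth.Agent.Lib.QcohEt15.Present
import Mathlib.Algebra.Category.ModuleCat.Sheaf.LocallyFree
import Mathlib.RingTheory.Localization.Free
import Mathlib.RingTheory.Flat.EquationalCriterion
import Mathlib.RingTheory.LocalRing.Module
import Mathlib.RingTheory.Localization.BaseChange

/-!
# Finite locally free modules on the small etale site and their sections
-/

universe u v

set_option linter.style.haveILetI false
set_option backward.isDefEq.respectTransparency false
set_option backward.isDefEq.respectTransparency.types false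

open CategoryTheory CategoryTheory.Limits AlgebraicGeometry Opposite TensorProduct TopologicalSpace

namespace Groth.Agent.FinLocFree14

open AlgSp Groth.Agent.QcohEt15 Groth.Agent.AlgSpEt14

/-- A finitely presented flat module becomes free after inverting one function off a given prime. -/
theorem exists_free_away {A : Type u} [CommRing A] {L : Type v} [AddCommGroup L] [Module A L]
    [Module.FinitePresentation A L] [Module.Flat A L] (p : Ideal A) [p.IsPrime] :
    ∃ r, r ∉ p ∧ ∀ (B : Type u) [CommRing B] [Algebra A B], IsUnit (algebraMap A B r) →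
      Module.Free B (B ⊗[A] L) := by
  let Rp := Localization p.primeCompl
  haveI : Module.Flat Rp (LocalizedModule p.primeCompl L) :=
    Module.Flat.of_linearEquiv (LocalizedModule.equivTensorProduct p.primeCompl L)
  haveI : Module.Finite Rp (LocalizedModule p.primeCompl L) :=
    Module.Finite.of_isLocalizedModule p.primeCompl (Rₚ := Rp) (LocalizedModule.mkLinearMap p.primeCompl L)
  haveI : IsLocalRing Rp := IsLocalization.AtPrime.isLocalRing Rp p
  haveI : Module.Free Rp (LocalizedModule p.primeCompl L) := Module.free_of_flat_of_isLocalRing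
  haveI : Nontrivial Rp := inferInstance
  obtain ⟨r, hr, hfree, -⟩ := Module.FinitePresentation.exists_free_localizedModule_powers p.primeCompl
    (LocalizedModule.mkLinearMap p.primeCompl L) Rp
  refine ⟨r, hr, fun B _ _ hB => ?_⟩
  let φ : Localization (Submonoid.powers r) →+* B :=
    IsLocalization.Away.lift (S := Localization (Submonoid.powers r)) r hB
  letI : Algebra (Localization (Submonoid.powers r)) B := φ.toAlgebra
  haveI : IsScalarTower A (Localization (Submonoid.powers r)) B :=
    IsScalarTower.of_algebraMap_eq fun x =>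
      (IsLocalization.Away.lift_eq (S := Localization (Submonoid.powers r)) r hB x).symm
  haveI : Module.Free (Localization (Submonoid.powers r)) (Localization (Submonoid.powers r) ⊗[A] L) :=
    Module.Free.of_equiv (LocalizedModule.equivTensorProduct (Submonoid.powers r) L)
  exact Module.Free.of_equiv
    (AlgebraTensorModule.cancelBaseChange A (Localization (Submonoid.powers r)) B B L)

variable {S : Scheme.{u}} {X : Sp S} {M : ModEt X}

/-- A finite basis of the sections over an affine object gives a free finite trivialisation over it. -/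
theorem exists_generators_of_free {Z : EtOver X} [IsAffine Z.obj.left.left] (hZ : Good M Z)
    [Module.Free (Γo Z) (sectModEt M Z)] [Module.Finite (Γo Z) (sectModEt M Z)] :
    ∃ σ : (M.over Z).GeneratingSections, IsIso σ.π ∧ σ.IsFiniteType := by
  obtain ⟨J, hJ, ⟨b⟩⟩ : ∃ (J : Type (u + 1)) (_ : Finite J), Nonempty (Module.Basis J (Γo Z) (sectModEt M Z)) := by
    rcases subsingleton_or_nontrivial (Γo Z) with h | h
    · haveI : Subsingleton (sectModEt M Z) := Module.subsingleton (Γo Z) _
      exact ⟨PEmpty.{u + 2}, inferInstance, ⟨Module.Basis.empty _⟩⟩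
    · exact ⟨_, Module.Finite.finite_basis (Module.Free.chooseBasis (Γo Z) (sectModEt M Z)),
        ⟨Module.Free.chooseBasis (Γo Z) (sectModEt M Z)⟩⟩
  obtain ⟨P, hg, hr⟩ := exists_presentation_of_good hZ b b.span_eq (PEmpty.elim.{u + 2, u + 2} : PEmpty → _) (by
    rw [Set.range_eq_empty, Submodule.span_empty, eq_comm, LinearMap.ker_eq_bot]
    exact b.linearIndependent)
  refine ⟨P.generators, ?_, ⟨hg ▸ hJ⟩⟩
  have : IsEmpty P.relations.I := hr ▸ inferInstance
  have h0 : kernel.ι P.generators.π = 0 := by
    refine (cancel_epi P.relations.π).1 ?_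
    exact (SheafOfModules.freeHomEquiv _).injective (funext fun i => isEmptyElim i)
  haveI : Mono P.generators.π := Abelian.mono_of_kernel_ι_eq_zero _ h0
  exact isIso_of_mono_of_epi _

/-- Over an object of a trivialisation the sections form a finite free module. -/
theorem free_of_generators {U : EtOver X} (σ : (M.over U).GeneratingSections) [IsIso σ.π] [σ.IsFiniteType]
    {Z : EtOver X} [IsAffine Z.obj.left.left] (t : Z ⟶ U) (hZ : Good M Z) :
    Module.Free (Γo Z) (sectModEt M Z) ∧ Module.Finite (Γo Z) (sectModEt M Z) := by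
  haveI : Finite σ.I := SheafOfModules.GeneratingSections.IsFiniteType.finite
  have hinj : Function.Injective (Finsupp.linearCombination (Γo Z) (gen σ t)) := by
    intro c c' e
    have h : ∀ x, (inv σ.π).val.app (op (Over.mk t)) (σ.π.val.app (op (Over.mk t)) x) = x := fun x =>
      congrArg (fun q => q.val.app (op (Over.mk t)) x) (IsIso.hom_inv_id σ.π)
    refine fc_injective t ?_
    rw [← h (fc t c), ← h (fc t c')]
    exact congrArg _ ((π_fc σ t c).trans (e.trans (π_fc σ t c').symm))
  let b := Module.Basis.mk (v := gen σ t) hinj (span_range_gen σ t hZ).ge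
  exact ⟨Module.Free.of_basis b, Module.Finite.of_basis b⟩

/-- An affine basic open of an affine object. -/
theorem isUnit_γ_basicOpen {E : EtOver X} (a : Γo E) :
    IsUnit (γ (openSubι E (E.obj.left.left.basicOpen a)) a) := by
  let U := E.obj.left.left
  have h := (RingedSpace.isUnit_res_basicOpen U.toLocallyRingedSpace.toRingedSpace a).map
    (U.basicOpen a).topIso.inv.hom
  refine Eq.mp (congrArg IsUnit ?_) h
  change (U.presheaf.map _ ≫ (U.basicOpen a).topIso.inv) a = (U.basicOpen a).ι.appTop a
  congr 2
  simp only [Scheme.Opens.topIso, Functor.mapIso_inv, Iso.op_inv, eqToIso.inv, eqToHom_op,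
    Scheme.Opens.ι_appTop]
  exact (Functor.map_comp _ _ _).symm.trans (congrArg _ (Subsingleton.elim _ _))

/-- Modules with finitely presented flat sections are finite locally free. -/
theorem exists_locallyFreeData (hgood : ∀ (E : EtOver X) [IsAffine E.obj.left.left], Good M E)
    (hfp : ∀ (E : EtOver X) [IsAffine E.obj.left.left], Module.FinitePresentation (Γo E) (sectModEt M E))
    (hfl : ∀ (E : EtOver X) [IsAffine E.obj.left.left], Module.Flat (Γo E) (sectModEt M E)) :
    ∃ q : SheafOfModules.LocalGeneratorsData.{u + 1} M, q.IsLocallyFreeData ∧ q.IsFiniteType := by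
  let Ob := {Z : EtOver X // IsAffine Z.obj.left.left ∧ ∃ σ : (M.over Z).GeneratingSections, IsIso σ.π ∧ σ.IsFiniteType}
  have hnb : ∀ (W : EtOver X) (x : ↥W.obj.left.left), ∃ (Z : Ob) (k : Z.1 ⟶ W), x ∈ Set.range k.hom.left.left := by
    intro W x
    obtain ⟨_, ⟨(O : W.obj.left.left.Opens), hO, rfl⟩, hxO, -⟩ :=
      W.obj.left.left.isBasis_affineOpens.exists_subset_of_mem_open (Set.mem_univ x) isOpen_univ
    let E := openSub W O
    haveI : IsAffine E.obj.left.left := hO
    let y : ↥E.obj.left.left := ⟨x, hxO⟩
    haveI := hfp E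
    haveI := hfl E
    let p := (isAffineOpen_top E.obj.left.left).primeIdealOf ⟨y, trivial⟩
    obtain ⟨r, hr, hfree⟩ := exists_free_away (L := sectModEt M E) p.asIdeal
    let D := E.obj.left.left.basicOpen r
    haveI : IsAffine (openSub E D).obj.left.left := (isAffineOpen_top _).basicOpen r
    let k := openSubι E D
    haveI : Module.Free (Tw k) (Tw k ⊗[Γo E] sectModEt M E) := hfree (Tw k) (isUnit_γ_basicOpen r)
    haveI : Module.Free (Γo (openSub E D)) (Tw k ⊗[Γo E] sectModEt M E) := this
    haveI : Module.Finite (Tw k) (Tw k ⊗[Γo E] sectModEt M E) := inferInstance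
    haveI : Module.Finite (Γo (openSub E D)) (Tw k ⊗[Γo E] sectModEt M E) := this
    let e : Tw k ⊗[Γo E] sectModEt M E ≃ₗ[Γo (openSub E D)] sectModEt M (openSub E D) :=
      LinearEquiv.ofBijective (liftₗ k LinearMap.id) (hgood E k)
    haveI := Module.Free.of_equiv e
    haveI := Module.Finite.equiv e
    have hy : y ∈ D := by
      let h := isAffineOpen_top E.obj.left.left
      have h1 : p ∈ h.fromSpec ⁻¹ᵁ D := by
        rw [h.fromSpec_preimage_basicOpen r]
        exact hr
      have h2 : h.fromSpec p = y := h.fromSpec_primeIdealOf ⟨y, trivial⟩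
      exact h2 ▸ h1
    exact ⟨⟨openSub E D, inferInstance, exists_generators_of_free (hgood _)⟩, k ≫ openSubι W O, ⟨⟨y, hy⟩, rfl⟩⟩
  have hc : (etTop X).CoversTop (fun Z : Ob => Z.1) := fun W => by
    choose Z k hk using hnb W
    refine (etTop X).superset_covering ?_ (ofArrows_mem_etTop (fun x => (Z x).1) k fun x => ⟨x, hk x⟩)
    rw [Sieve.generate_le_iff]
    rintro _ _ ⟨x⟩
    exact (Sieve.mem_ofObjects_iff ..).2 ⟨Z x, ⟨𝟙 _⟩⟩
  choose σ hiso hft using fun Z : Ob => Z.2.2
  let q : SheafOfModules.LocalGeneratorsData.{u + 1} M :=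
    { I := Ob, X := fun Z => Z.1, coversTop := hc, generators := σ }
  exact ⟨q, @SheafOfModules.LocalGeneratorsData.IsLocallyFreeData.mk _ _ _ _ _ _ _ q hiso,
    @SheafOfModules.LocalGeneratorsData.IsFiniteType.mk _ _ _ _ _ _ _ q hft⟩

end Groth.Agent.FinLocFree14
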