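import Groth.Agent.Lib.FinLocFree14.Free
import Groth.Agent.Lib.QcohEt15.Push
import Groth.Agent.Lib.ProjSect14.Local
import Groth.Agent.Lib.AlgSpDescent.Deform
import Groth.Agent.Lib.AlgSpDescent.RepBase2
import Groth.Agent.Lib.AlgSpDecent.ClosedPoints
import Groth.Prelude.Def_AlgSpMor5
import Mathlib.RingTheory.Finiteness.ModuleFinitePresentation

/-!
# Finite locally free morphisms and the direct image of the structure sheaf
-/

universe u

set_option linter.style.haveILetI false
set_option maxHeartbeats 600000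
set_option backward.isDefEq.respectTransparency false
set_option backward.isDefEq.respectTransparency.types false

open CategoryTheory CategoryTheory.Limits AlgebraicGeometry Opposite TensorProduct

namespace Groth.Agent.FinLocFree14

open AlgSp Groth.Agent.QcohEt15 Groth.Agent.AlgSpEt14

variable {S : Scheme.{u}} {X Y : Sp S} {f : X ⟶ Y} (hf : Representable f)

/-- The functions on the base change, as an algebra over the functions on the object. -/
def Fn (E : EtOver Y) : Type u := Γo (EtOver.bcObj hf E)

noncomputable instance (E : EtOver Y) : CommRing (Fn hf E) :=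
  inferInstanceAs (CommRing (Γo (EtOver.bcObj hf E)))

noncomputable instance (E : EtOver Y) : Algebra (Γo E) (Fn hf E) :=
  (bγ hf E : Γo E →+* Fn hf E).toAlgebra

/-- Sections of the direct image of the structure sheaf are functions on the base change. -/
noncomputable def fnEquiv (E : EtOver Y) :
    Fn hf E ≃ₗ[Γo E] sectModEt ((pushModEt hf).obj (unitModEt X)) E where
  toFun a := pushIn hf (ULift.up (a : Γo (EtOver.bcObj hf E)))
  invFun m := ULift.down (pushOut hf m)
  left_inv _ := rfl
  right_inv _ := rfl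
  map_add' _ _ := rfl
  map_smul' r a := by rfl

theorem isAffineMor_of_finLocFree (h : IsFinLocFreeMor f) : IsAffineMor f := fun Z hZ g => by
  refine ⟨h.1.pullback g, h.1.snd g, h.1.fst g, h.1.isPullback g, ?_⟩
  have hfl : Mor2.IsFinLocFree (h.1.snd g).left := h.2 g _ _ (h.1.isPullback g)
  haveI := hfl.1
  exact isAffine_of_isAffineHom (h.1.snd g).left

variable (E : EtOver Y) [IsAffine E.obj.left.left] [IsAffine (EtOver.bcObj hf E).obj.left.left]

theorem finLocFree_bcπ_iff : Mor2.IsFinLocFree (EtOver.bcπ hf E).left ↔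
    Module.Finite (Γo E) (Fn hf E) ∧ Module.Flat (Γo E) (Fn hf E) ∧
      Module.FinitePresentation (Γo E) (Fn hf E) := by
  have h₁ : IsFinite (EtOver.bcπ hf E).left ↔ (bγ hf E).Finite :=
    ((HasAffineProperty.iff_of_isAffine (P := @IsFinite)).trans
      ⟨fun h => h.2, fun h => ⟨inferInstance, h⟩⟩)
  have h₂ : Flat (EtOver.bcπ hf E).left ↔ (bγ hf E).Flat :=
    HasRingHomProperty.iff_of_isAffine (P := @Flat)
  have h₃ : LocallyOfFinitePresentation (EtOver.bcπ hf E).left ↔ (bγ hf E).FinitePresentation :=
    HasRingHomProperty.iff_of_isAffine (P := @LocallyOfFinitePresentation)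
  refine ⟨fun h => ?_, fun h => ?_⟩
  · have e₁ : Module.Finite (Γo E) (Fn hf E) := h₁.1 h.1
    have e₂ : Module.Flat (Γo E) (Fn hf E) := h₂.1 h.2.1
    haveI : Algebra.FinitePresentation (Γo E) (Fn hf E) := h₃.1 h.2.2
    exact ⟨e₁, e₂, Module.FinitePresentation.of_finite_of_finitePresentation (Γo E) (Fn hf E)⟩
  · obtain ⟨e₁, e₂, e₃⟩ := h
    haveI := e₃
    have e₄ : Algebra.FinitePresentation (Γo E) (Fn hf E) := inferInstance
    exact ⟨h₁.2 e₁, h₂.2 e₂, h₃.2 e₄⟩

end Groth.Agent.FinLocFree14

namespace Groth.Agent.FinLocFree14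

open AlgSp Groth.Agent.QcohEt15 Groth.Agent.AlgSpEt14

variable {S : Scheme.{u}} {X Y : Sp S} {f : X ⟶ Y} (hf : Representable f)

/-- The structure sheaf is quasi-coherent. -/
theorem isQuasicoherent_unit {Z : Sp S} : (unitModEt Z).IsQuasicoherent :=
  (SheafOfModules.isQuasicoherent (OEtRing Z)).prop_of_iso
    (coproductUniqueIso (fun _ : PUnit.{u + 2} => unitModEt Z) :
      SheafOfModules.free (R := OEtRing Z) PUnit.{u + 2} ≅ unitModEt Z)
    (inferInstance : (SheafOfModules.free (R := OEtRing Z) PUnit.{u + 2}).IsQuasicoherent)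

attribute [local instance] isQuasicoherent_unit

/-- The direct image of the structure sheaf along a finite locally free morphism is finite locally free. -/
theorem exists_data_of_finLocFree (h : IsFinLocFreeMor f) :
    ∃ q : SheafOfModules.LocalGeneratorsData.{u + 1} ((pushModEt hf).obj (unitModEt X)),
      q.IsLocallyFreeData ∧ q.IsFiniteType := by
  have haff := isAffineMor_of_finLocFree h
  have hb : ∀ (E : EtOver Y) [IsAffine E.obj.left.left], Module.Finite (Γo E) (Fn hf E) ∧
      Module.Flat (Γo E) (Fn hf E) ∧ Module.FinitePresentation (Γo E) (Fn hf E) := fun E _ => by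
    haveI := isAffine_bcObj hf haff E
    exact (finLocFree_bcπ_iff hf E).1 (h.2 E.obj.hom _ _ (EtOver.isPullback_bcObj hf E))
  refine exists_locallyFreeData (fun E _ => good_push_of_isQuasicoherent hf haff E) (fun E _ => ?_)
    fun E _ => ?_
  · haveI := (hb E).2.2
    exact Module.FinitePresentation.of_equiv (fnEquiv hf E)
  · haveI := (hb E).2.1
    exact Module.Flat.of_linearEquiv (fnEquiv hf E).symm

/-- Conversely. -/
theorem finLocFree_bcπ_of_data (haff : IsAffineMor f)
    {q : SheafOfModules.LocalGeneratorsData.{u + 1} ((pushModEt hf).obj (unitModEt X))}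
    (hq : q.IsLocallyFreeData) (hqf : q.IsFiniteType) (E : EtOver Y) [IsAffine E.obj.left.left] :
    Mor2.IsFinLocFree (EtOver.bcπ hf E).left := by
  haveI := isAffine_bcObj hf haff E
  let L := (pushModEt hf).obj (unitModEt X)
  haveI : L.IsQuasicoherent := isQuasicoherent_push hf haff
  have hloc : ∀ {Z : EtOver Y} [IsAffine Z.obj.left.left] {i : q.I} (t : Z ⟶ q.X i),
      Module.Free (Γo Z) (sectModEt L Z) ∧ Module.Finite (Γo Z) (sectModEt L Z) := fun {Z} _ {i} t => by
    haveI := hq.isIso i
    haveI := hqf.isFiniteType i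
    exact free_of_generators (q.generators i) t (good_of_isQuasicoherent Z)
  haveI : Module.FinitePresentation (Γo E) (sectModEt L E) := by
    refine finitePresentation_of_local _ (q.coversTop E) fun Z _ k hk => ?_
    obtain ⟨i, ⟨t⟩⟩ := (Sieve.mem_ofObjects_iff ..).1 hk
    obtain ⟨h₁, h₂⟩ := hloc t
    haveI := Module.finitePresentation_of_projective (Γo Z) (sectModEt L Z)
    exact Module.FinitePresentation.of_equiv
      (LinearEquiv.ofBijective (liftₗ k LinearMap.id) (good_of_isQuasicoherent E k)).symm
  obtain ⟨κ, _, Z, g, hZ, hg, hcov⟩ := exists_affine_family _ (q.coversTop E)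
  haveI := hZ
  haveI : Module.Projective (Γo E) (Fn hf E) := by
    refine ProjSect14.projective_of_cover Z g hcov (fun k => ?_) (fnEquiv hf E)
    obtain ⟨i, ⟨t⟩⟩ := (Sieve.mem_ofObjects_iff ..).1 (hg k)
    haveI := (hloc t).1
    exact Module.Projective.of_free
  haveI : Module.FinitePresentation (Γo E) (Fn hf E) := Module.FinitePresentation.of_equiv (fnEquiv hf E).symm
  exact (finLocFree_bcπ_iff hf E).2 ⟨inferInstance, inferInstance, inferInstance⟩

end Groth.Agent.FinLocFree14

namespace Groth.Agent.FinLocFree14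

open AlgSp Groth.Agent.AlgSpace Groth.Agent.AlgSpDescent

variable {S : Scheme.{u}} {X Y : Space S} {f : X.obj ⟶ Y.obj} (hf : Representable f)

/-- The criterion. -/
theorem isFinLocFreeMor_iff : IsFinLocFreeMor f ↔ IsAffineMor f ∧
    ∃ q : SheafOfModules.LocalGeneratorsData.{u + 1} ((pushModEt hf).obj (unitModEt X.obj)),
      q.IsLocallyFreeData ∧ q.IsFiniteType := by
  refine ⟨fun h => ⟨isAffineMor_of_finLocFree h, exists_data_of_finLocFree hf h⟩, ?_⟩
  rintro ⟨haff, q, hq, hqf⟩
  rw [IsFinLocFreeMor, finLocFree_eq]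
  have := isLocalAtTarget_fppf_finLocFree.{u}
  refine AlgSpDecent.repWith_of_affine_charts Y.property hf fun {U W} hU φ hφ fst snd sq => ?_
  let E : EtOver Y.obj := EtOver.mk φ hφ
  haveI : IsAffine E.obj.left.left := hU
  have hπ := finLocFree_bcπ_of_data hf haff hq hqf E
  let e : W ≅ (EtOver.bcObj hf E).obj.left :=
    (yon S).preimageIso (sq.isoIsPullback _ _ (EtOver.isPullback_bcObj hf E))
  have he : e.hom ≫ EtOver.bcπ hf E = snd := (yon S).map_injective (by
    rw [Functor.map_comp, Functor.preimageIso_hom, Functor.map_preimage]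
    exact sq.isoIsPullback_hom_snd _ _ (EtOver.isPullback_bcObj hf E))
  rw [← he, Over.comp_left]
  haveI : IsIso e.hom.left := inferInstanceAs (IsIso ((Over.forget S).map e.hom))
  refine (MorphismProperty.cancel_left_of_respectsIso
    (@IsFinite ⊓ @Flat ⊓ @LocallyOfFinitePresentation : MorphismProperty Scheme.{u}) e.hom.left _).2 ?_
  exact ⟨⟨hπ.1, hπ.2.1⟩, hπ.2.2⟩

end Groth.Agent.FinLocFree14
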